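import Mathlib
import Cfsg.Agent.Lib.Helper51.Zass.Defs
import Cfsg.Agent.Lib.Helper43.Zass.Lift

/-!
# Project ZASS (S0690): package [STR120]

The `T(5)`-structure of a plane (central extension of `A₅` by a group of order 2 in a group
with at most one involution): points are the 10 subgroups of order 3, two points are adjacent
when they generate a subgroup of order 24; the graph is the triangular graph `T(5)`.
-/

set_option autoImplicit false

namespace Cfsg.Agent.Lib.Helper43.Zass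

open Subgroup

universe u

/-- the alternating group of degree 5. -/
abbrev Alt5 := alternatingGroup (Fin 5)

/-- `b` and `c` have a common fixed point. -/
def comFix (b c : Alt5) : Prop :=
  ∃ i : Fin 5, (b : Equiv.Perm (Fin 5)) i = i ∧ (c : Equiv.Perm (Fin 5)) i = i

instance : DecidableRel comFix := by unfold comFix; infer_instance

/-- `b`, `c` and `d` have a common fixed point. -/
def comFix3 (b c d : Alt5) : Prop :=
  ∃ i : Fin 5, (b : Equiv.Perm (Fin 5)) i = i ∧ (c : Equiv.Perm (Fin 5)) i = i ∧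
    (d : Equiv.Perm (Fin 5)) i = i

instance (b c : Alt5) : DecidablePred (comFix3 b c) := by unfold comFix3; infer_instance

/-- adjacency of (generators of) points of `A₅`. -/
def adjP (b c : Alt5) : Prop := c ≠ b ∧ c ≠ b⁻¹ ∧ comFix b c

instance : DecidableRel adjP := by unfold adjP; infer_instance

/-- non-adjacency of distinct points. -/
def nadj (b c : Alt5) : Prop := c ≠ b ∧ c ≠ b⁻¹ ∧ ¬ comFix b c

instance : DecidableRel nadj := by unfold nadj; infer_instance

/-- order 3, decidably. -/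
def o3 (b : Alt5) : Prop := b ^ 3 = 1 ∧ b ≠ 1

instance : DecidablePred o3 := by unfold o3; infer_instance

theorem o3_iff (b : Alt5) : o3 b ↔ orderOf b = 3 := by
  unfold o3
  rw [orderOf_eq_prime_iff]

set_option maxRecDepth 100000 in
theorem decA : ∀ b : Alt5, o3 b →
    (Finset.univ.filter (fun c : Alt5 => o3 c ∧ adjP b c)).card = 12 := by
  decide +kernel

set_option maxRecDepth 100000 in
theorem decB : ∀ b : Alt5, o3 b → ∀ c : Alt5, o3 c → nadj b c →
    (Finset.univ.filter (fun d : Alt5 => o3 d ∧ adjP b d ∧ adjP c d)).card = 8 := by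
  decide +kernel

set_option maxRecDepth 100000 in
theorem decC : ∀ b : Alt5, o3 b → ∀ c : Alt5, o3 c → adjP b c →
    (Finset.univ.filter (fun d : Alt5 => o3 d ∧ ¬ comFix3 b c d ∧ adjP b d ∧ adjP c d)).card
      = 2 := by
  decide +kernel

set_option maxRecDepth 100000 in
theorem dec0 : ∀ b : Alt5, o3 b → ∀ c : Alt5, o3 c → nadj b c →
    (b * c) ^ 5 = 1 ∧ b * c ≠ 1 := by
  decide +kernel

set_option maxRecDepth 100000 in
theorem decSt : ∀ i : Fin 5,
    (Finset.univ.filter (fun σ : Alt5 => (σ : Equiv.Perm (Fin 5)) i = i)).card = 12 := by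
  decide +kernel

theorem card_alt5 : Nat.card (alternatingGroup (Fin 5)) = 60 := by
  have h := two_mul_nat_card_alternatingGroup (α := Fin 5)
  rw [Nat.card_perm, Nat.card_eq_fintype_card (α := Fin 5), Fintype.card_fin] at h
  have h4 : Nat.factorial 5 = 120 := by decide
  rw [h4] at h
  omega

/-- the stabilizer of a point in `A₅`. -/
def fixSub (i : Fin 5) : Subgroup Alt5 where
  carrier := {σ | (σ : Equiv.Perm (Fin 5)) i = i}
  mul_mem' := by
    intro a b ha hb
    have ha' : (a : Equiv.Perm (Fin 5)) i = i := ha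
    have hb' : (b : Equiv.Perm (Fin 5)) i = i := hb
    show ((a * b : Alt5) : Equiv.Perm (Fin 5)) i = i
    rw [Subgroup.coe_mul, Equiv.Perm.mul_apply, hb', ha']
  one_mem' := by
    show ((1 : Alt5) : Equiv.Perm (Fin 5)) i = i
    simp
  inv_mem' := by
    intro a ha
    have ha' : (a : Equiv.Perm (Fin 5)) i = i := ha
    show ((a⁻¹ : Alt5) : Equiv.Perm (Fin 5)) i = i
    rw [Subgroup.coe_inv, Equiv.Perm.inv_eq_iff_eq]
    exact ha'.symm

theorem mem_fixSub (i : Fin 5) (σ : Alt5) :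
    σ ∈ fixSub i ↔ (σ : Equiv.Perm (Fin 5)) i = i := Iff.rfl

theorem card_fixSub (i : Fin 5) : Nat.card (fixSub i) = 12 := by
  have h1 : Nat.card (fixSub i) = Set.ncard ((fixSub i : Subgroup Alt5) : Set Alt5) :=
    Nat.card_coe_set_eq _
  have h2 : ((fixSub i : Subgroup Alt5) : Set Alt5) =
      ↑(Finset.univ.filter (fun σ : Alt5 => (σ : Equiv.Perm (Fin 5)) i = i)) := by
    ext σ
    simp [mem_fixSub]
  rw [h1, h2, Set.ncard_coe_finset, decSt]

/-- two adjacent points generate the stabilizer of their common fixed point. -/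
theorem join_eq_fixSub (b c : Alt5) (ob : orderOf b = 3) (oc : orderOf c = 3)
    (h1 : c ≠ b) (h2 : c ≠ b⁻¹) (i : Fin 5) (hbi : (b : Equiv.Perm (Fin 5)) i = i)
    (hci : (c : Equiv.Perm (Fin 5)) i = i) :
    zpowers b ⊔ zpowers c = fixSub i ∧ Nat.card ↥(zpowers b ⊔ zpowers c) = 12 := by
  have hle : zpowers b ⊔ zpowers c ≤ fixSub i :=
    sup_le (zpowers_le.mpr ((mem_fixSub i b).mpr hbi)) (zpowers_le.mpr ((mem_fixSub i c).mpr hci))
  have hbB : b ∈ zpowers b ⊔ zpowers c := (le_sup_left : zpowers b ≤ _) (mem_zpowers _)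
  have hcB : c ∈ zpowers b ⊔ zpowers c := (le_sup_right : zpowers c ≤ _) (mem_zpowers _)
  obtain ⟨hn3, hn6⟩ := card_ne_of_two_order3 _ hbB hcB ob oc h1 h2
  have hd12 : Nat.card ↥(zpowers b ⊔ zpowers c) ∣ 12 :=
    card_fixSub i ▸ Subgroup.card_dvd_of_le hle
  have hd3 : 3 ∣ Nat.card ↥(zpowers b ⊔ zpowers c) :=
    ob ▸ Subgroup.orderOf_dvd_natCard _ hbB
  have h12 : Nat.card ↥(zpowers b ⊔ zpowers c) = 12 := by
    have hle' : Nat.card ↥(zpowers b ⊔ zpowers c) ≤ 12 := Nat.le_of_dvd (by norm_num) hd12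
    generalize Nat.card ↥(zpowers b ⊔ zpowers c) = n at *
    interval_cases n <;> omega
  exact ⟨Subgroup.eq_of_le_of_card_ge hle (by rw [h12, card_fixSub]), h12⟩

theorem adj_card (b c : Alt5) (ob : orderOf b = 3) (oc : orderOf c = 3) (h : adjP b c) :
    Nat.card ↥(zpowers b ⊔ zpowers c) = 12 ∧
      ∀ d : Alt5, (d ∈ zpowers b ⊔ zpowers c ↔ comFix3 b c d) := by
  obtain ⟨h1, h2, i, hbi, hci⟩ := h
  obtain ⟨heq, h12⟩ := join_eq_fixSub b c ob oc h1 h2 i hbi hci
  refine ⟨h12, fun d => ⟨fun hd => ⟨i, hbi, hci, ?_⟩, ?_⟩⟩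
  · rw [heq] at hd
    exact (mem_fixSub i d).mp hd
  · rintro ⟨j, hbj, hcj, hdj⟩
    rw [(join_eq_fixSub b c ob oc h1 h2 j hbj hcj).1]
    exact (mem_fixSub j d).mpr hdj

theorem nadj_dvd (b c : Alt5) (ob : orderOf b = 3) (oc : orderOf c = 3) (h : nadj b c) :
    5 ∣ Nat.card ↥(zpowers b ⊔ zpowers c) := by
  obtain ⟨h5, hne⟩ := dec0 b ((o3_iff b).mpr ob) c ((o3_iff c).mpr oc) h
  have : Fact (Nat.Prime 5) := ⟨by norm_num⟩
  have o5 : orderOf (b * c) = 5 := orderOf_eq_prime h5 hne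
  have hbB : b ∈ zpowers b ⊔ zpowers c := (le_sup_left : zpowers b ≤ _) (mem_zpowers _)
  have hcB : c ∈ zpowers b ⊔ zpowers c := (le_sup_right : zpowers c ≤ _) (mem_zpowers _)
  have hdvd := Subgroup.orderOf_dvd_natCard _ (mul_mem hbB hcB)
  rwa [o5] at hdvd

/-- abstract version of [STR120]. -/
theorem str120_abs {H : Type*} [Group H] [Finite H]
    (hUI : ∀ s t : H, orderOf s = 2 → orderOf t = 2 → s = t)
    (f : H →* alternatingGroup (Fin 5)) (hf : Function.Surjective f)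
    (hker : Nat.card f.ker = 2) :
    (∀ P : Subgroup H, Nat.card P = 3 →
      Set.ncard {Q : Subgroup H | Nat.card Q = 3 ∧ Nat.card ↥(P ⊔ Q) = 24} = 6) ∧
    (∀ P Q : Subgroup H, Nat.card P = 3 → Nat.card Q = 3 → P ⊔ Q = ⊤ →
      Set.ncard {R : Subgroup H | Nat.card R = 3 ∧ Nat.card ↥(P ⊔ R) = 24 ∧
        Nat.card ↥(Q ⊔ R) = 24} = 4) ∧
    (∀ P Q : Subgroup H, Nat.card P = 3 → Nat.card Q = 3 → Nat.card ↥(P ⊔ Q) = 24 →
      Set.ncard {R : Subgroup H | Nat.card R = 3 ∧ ¬ R ≤ P ⊔ Q ∧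
        Nat.card ↥(P ⊔ R) = 24 ∧ Nat.card ↥(Q ⊔ R) = 24} = 1) := by
  obtain ⟨z, hz, hk, hc, heven⟩ := exists_kernel_involution f hker hUI
  have T : ∀ x a : H, orderOf x = 3 → orderOf a = 3 →
      (Nat.card ↥(zpowers x ⊔ zpowers a) = 24 ↔ adjP (f x) (f a)) := by
    intro x a ox oa
    have ofx := orderOf_map_order3 hz hk ox
    have ofa := orderOf_map_order3 hz hk oa
    have hmapd : Nat.card ↥(zpowers (f x) ⊔ zpowers (f a)) ∣
        Nat.card ↥(zpowers x ⊔ zpowers a) := by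
      rw [← map_sup_zpowers]; exact Subgroup.card_map_dvd _ f
    constructor
    · intro h24
      have h1 : f a ≠ f x := by
        intro h
        have := inj_order3 hz hk hc oa ox h
        rw [this, sup_idem, card_zpowers_order3 ox] at h24
        omega
      have h2 : f a ≠ (f x)⁻¹ := by
        intro h
        have ox' : orderOf x⁻¹ = 3 := by rw [orderOf_inv]; exact ox
        have : a = x⁻¹ := inj_order3 hz hk hc oa ox' (by rw [h, map_inv])
        rw [this, zpowers_inv, sup_idem, card_zpowers_order3 ox] at h24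
        omega
      refine ⟨h1, h2, ?_⟩
      by_contra hcf
      have h5 := nadj_dvd (f x) (f a) ofx ofa ⟨h1, h2, hcf⟩
      have := h5.trans hmapd
      rw [h24] at this
      omega
    · intro hadj
      obtain ⟨h12, -⟩ := adj_card (f x) (f a) ofx ofa hadj
      have h2 : 2 ∣ Nat.card ↥(zpowers x ⊔ zpowers a) := by
        rw [h12] at hmapd
        exact Dvd.dvd.trans (by norm_num) hmapd
      have hA := heven _ h2
      rw [card_eq_two_mul_card_map f hker _ hA, map_sup_zpowers, h12]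
  refine ⟨?_, ?_, ?_⟩
  · intro P hP
    obtain ⟨x, ox, rfl⟩ := exists_gen_of_card3 P hP
    have ofx := orderOf_map_order3 hz hk ox
    have h : 2 * Set.ncard {Q : Subgroup H | Nat.card Q = 3 ∧
        Nat.card ↥(zpowers x ⊔ Q) = 24} =
        Set.ncard {b : Alt5 | orderOf b = 3 ∧ adjP (f x) b} :=
      two_mul_ncard_eq hf hz hk hc (fun Q => Nat.card ↥(zpowers x ⊔ Q) = 24)
        (fun b => adjP (f x) b) (fun a oa => T x a ox oa)
    have hset : {b : Alt5 | orderOf b = 3 ∧ adjP (f x) b} =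
        ↑(Finset.univ.filter (fun c : Alt5 => o3 c ∧ adjP (f x) c)) := by
      ext b; simp [o3_iff]
    rw [hset, Set.ncard_coe_finset, decA (f x) ((o3_iff _).mpr ofx)] at h
    omega
  · intro P Q hP hQ htop
    obtain ⟨x, ox, rfl⟩ := exists_gen_of_card3 P hP
    obtain ⟨y, oy, rfl⟩ := exists_gen_of_card3 Q hQ
    have ofx := orderOf_map_order3 hz hk ox
    have ofy := orderOf_map_order3 hz hk oy
    have hcardH : Nat.card H = 2 * Nat.card Alt5 := by
      have := card_eq_two_mul_card_map f hker ⊤ le_top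
      rwa [Subgroup.card_top, Subgroup.map_top_of_surjective f hf, Subgroup.card_top] at this
    have h1 : f y ≠ f x := by
      intro h
      have := inj_order3 hz hk hc oy ox h
      rw [this, sup_idem] at htop
      have h3 : Nat.card (⊤ : Subgroup H) = 3 := by rw [← htop]; exact card_zpowers_order3 ox
      rw [Subgroup.card_top, hcardH] at h3
      omega
    have h2 : f y ≠ (f x)⁻¹ := by
      intro h
      have ox' : orderOf x⁻¹ = 3 := by rw [orderOf_inv]; exact ox
      have : y = x⁻¹ := inj_order3 hz hk hc oy ox' (by rw [h, map_inv])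
      rw [this, zpowers_inv, sup_idem] at htop
      have h3 : Nat.card (⊤ : Subgroup H) = 3 := by rw [← htop]; exact card_zpowers_order3 ox
      rw [Subgroup.card_top, hcardH] at h3
      omega
    have hnadj : nadj (f x) (f y) := by
      refine ⟨h1, h2, ?_⟩
      intro hcf
      obtain ⟨h12, -⟩ := adj_card _ _ ofx ofy ⟨h1, h2, hcf⟩
      have hm : (zpowers x ⊔ zpowers y).map f = ⊤ := by
        rw [htop, Subgroup.map_top_of_surjective f hf]
      rw [map_sup_zpowers] at hm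
      rw [hm, Subgroup.card_top, card_alt5] at h12
      omega
    have h : 2 * Set.ncard {R : Subgroup H | Nat.card R = 3 ∧
        Nat.card ↥(zpowers x ⊔ R) = 24 ∧ Nat.card ↥(zpowers y ⊔ R) = 24} =
        Set.ncard {b : Alt5 | orderOf b = 3 ∧ (adjP (f x) b ∧ adjP (f y) b)} :=
      two_mul_ncard_eq hf hz hk hc
        (fun R => Nat.card ↥(zpowers x ⊔ R) = 24 ∧ Nat.card ↥(zpowers y ⊔ R) = 24)
        (fun b => adjP (f x) b ∧ adjP (f y) b)
        (fun a oa => and_congr (T x a ox oa) (T y a oy oa))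
    have hset : {b : Alt5 | orderOf b = 3 ∧ (adjP (f x) b ∧ adjP (f y) b)} =
        ↑(Finset.univ.filter (fun d : Alt5 => o3 d ∧ adjP (f x) d ∧ adjP (f y) d)) := by
      ext b; simp [o3_iff]
    rw [hset, Set.ncard_coe_finset,
      decB (f x) ((o3_iff _).mpr ofx) (f y) ((o3_iff _).mpr ofy) hnadj] at h
    omega
  · intro P Q hP hQ h24
    obtain ⟨x, ox, rfl⟩ := exists_gen_of_card3 P hP
    obtain ⟨y, oy, rfl⟩ := exists_gen_of_card3 Q hQ
    have ofx := orderOf_map_order3 hz hk ox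
    have ofy := orderOf_map_order3 hz hk oy
    have hadj : adjP (f x) (f y) := (T x y ox oy).mp h24
    obtain ⟨h12, hmem⟩ := adj_card _ _ ofx ofy hadj
    have hA : f.ker ≤ zpowers x ⊔ zpowers y := heven _ (by rw [h24]; norm_num)
    have hR : ∀ a : H, orderOf a = 3 →
        ((¬ zpowers a ≤ zpowers x ⊔ zpowers y) ↔ ¬ comFix3 (f x) (f y) (f a)) := by
      intro a oa
      rw [zpowers_le, mem_iff_map_mem f _ hA a, map_sup_zpowers, hmem]
    have h : 2 * Set.ncard {R : Subgroup H | Nat.card R = 3 ∧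
        (¬ R ≤ zpowers x ⊔ zpowers y ∧
        Nat.card ↥(zpowers x ⊔ R) = 24 ∧ Nat.card ↥(zpowers y ⊔ R) = 24)} =
        Set.ncard {b : Alt5 | orderOf b = 3 ∧
          (¬ comFix3 (f x) (f y) b ∧ adjP (f x) b ∧ adjP (f y) b)} :=
      two_mul_ncard_eq hf hz hk hc
        (fun R => ¬ R ≤ zpowers x ⊔ zpowers y ∧
          Nat.card ↥(zpowers x ⊔ R) = 24 ∧ Nat.card ↥(zpowers y ⊔ R) = 24)
        (fun b => ¬ comFix3 (f x) (f y) b ∧ adjP (f x) b ∧ adjP (f y) b)
        (fun a oa => and_congr (hR a oa) (and_congr (T x a ox oa) (T y a oy oa)))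
    have hset : {b : Alt5 | orderOf b = 3 ∧
          (¬ comFix3 (f x) (f y) b ∧ adjP (f x) b ∧ adjP (f y) b)} =
        ↑(Finset.univ.filter (fun d : Alt5 => o3 d ∧ ¬ comFix3 (f x) (f y) d ∧
          adjP (f x) d ∧ adjP (f y) d)) := by
      ext b; simp [o3_iff]
    rw [hset, Set.ncard_coe_finset,
      decC (f x) ((o3_iff _).mpr ofx) (f y) ((o3_iff _).mpr ofy) hadj] at h
    omega

/-- [STR120] the `T(5)`-structure of a plane. -/
theorem pkgStr120 : Cfsg.Agent.Lib.Helper51.Zass.PkgStr120.{u} := by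
  intro G _ _ hUI Pl hPl
  obtain ⟨f, hf, hker⟩ := hPl
  have hUI' : ∀ s t : Pl, orderOf s = 2 → orderOf t = 2 → s = t := by
    intro s t hs ht
    apply Subtype.ext
    apply hUI
    · rw [Subgroup.orderOf_coe]; exact hs
    · rw [Subgroup.orderOf_coe]; exact ht
  obtain ⟨ha, hb, hc⟩ := str120_abs hUI' f hf hker
  refine ⟨?_, ?_, ?_⟩
  · intro P hP hPle
    obtain ⟨P', rfl, hP'⟩ := exists_sub_of_le Pl hPle
    have key : Set.ncard {Q : Subgroup G | Nat.card Q = 3 ∧ Q ≤ Pl ∧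
          Nat.card ↥(P'.map Pl.subtype ⊔ Q) = 24} =
        Set.ncard {Q' : Subgroup Pl | Nat.card Q' = 3 ∧
          Nat.card ↥(P'.map Pl.subtype ⊔ Q'.map Pl.subtype) = 24} :=
      ncard_le_transfer Pl (fun Q => Nat.card ↥(P'.map Pl.subtype ⊔ Q) = 24)
    have e : {Q' : Subgroup Pl | Nat.card Q' = 3 ∧
          Nat.card ↥(P'.map Pl.subtype ⊔ Q'.map Pl.subtype) = 24} =
        {Q' : Subgroup Pl | Nat.card Q' = 3 ∧ Nat.card ↥(P' ⊔ Q') = 24} := by
      ext Q'
      simp only [Set.mem_ofPred_eq]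
      rw [← Subgroup.map_sup, card_map_subtype]
    rw [key, e]
    exact ha P' (hP'.trans hP)
  · intro P Q hP hQ hPle hQle htop
    obtain ⟨P', rfl, hP'⟩ := exists_sub_of_le Pl hPle
    obtain ⟨Q', rfl, hQ'⟩ := exists_sub_of_le Pl hQle
    have htop' : P' ⊔ Q' = ⊤ := by
      apply Subgroup.map_injective Pl.subtype_injective
      rw [Subgroup.map_sup, htop, map_subtype_top']
    have key : Set.ncard {R : Subgroup G | Nat.card R = 3 ∧ R ≤ Pl ∧
          (Nat.card ↥(P'.map Pl.subtype ⊔ R) = 24 ∧ Nat.card ↥(Q'.map Pl.subtype ⊔ R) = 24)} =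
        Set.ncard {R' : Subgroup Pl | Nat.card R' = 3 ∧
          (Nat.card ↥(P'.map Pl.subtype ⊔ R'.map Pl.subtype) = 24 ∧
           Nat.card ↥(Q'.map Pl.subtype ⊔ R'.map Pl.subtype) = 24)} :=
      ncard_le_transfer Pl (fun R => Nat.card ↥(P'.map Pl.subtype ⊔ R) = 24 ∧
        Nat.card ↥(Q'.map Pl.subtype ⊔ R) = 24)
    have e : {R' : Subgroup Pl | Nat.card R' = 3 ∧
          (Nat.card ↥(P'.map Pl.subtype ⊔ R'.map Pl.subtype) = 24 ∧
           Nat.card ↥(Q'.map Pl.subtype ⊔ R'.map Pl.subtype) = 24)} =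
        {R' : Subgroup Pl | Nat.card R' = 3 ∧ Nat.card ↥(P' ⊔ R') = 24 ∧
          Nat.card ↥(Q' ⊔ R') = 24} := by
      ext R'
      simp only [Set.mem_ofPred_eq]
      rw [← Subgroup.map_sup, ← Subgroup.map_sup, card_map_subtype, card_map_subtype]
    rw [key, e]
    exact hb P' Q' (hP'.trans hP) (hQ'.trans hQ) htop'
  · intro P Q hP hQ hPle hQle h24
    obtain ⟨P', rfl, hP'⟩ := exists_sub_of_le Pl hPle
    obtain ⟨Q', rfl, hQ'⟩ := exists_sub_of_le Pl hQle
    have h24' : Nat.card ↥(P' ⊔ Q') = 24 := by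
      rw [← Subgroup.map_sup, card_map_subtype] at h24
      exact h24
    have key : Set.ncard {R : Subgroup G | Nat.card R = 3 ∧ R ≤ Pl ∧
          (¬ R ≤ P'.map Pl.subtype ⊔ Q'.map Pl.subtype ∧
           Nat.card ↥(P'.map Pl.subtype ⊔ R) = 24 ∧ Nat.card ↥(Q'.map Pl.subtype ⊔ R) = 24)} =
        Set.ncard {R' : Subgroup Pl | Nat.card R' = 3 ∧
          (¬ R'.map Pl.subtype ≤ P'.map Pl.subtype ⊔ Q'.map Pl.subtype ∧
           Nat.card ↥(P'.map Pl.subtype ⊔ R'.map Pl.subtype) = 24 ∧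
           Nat.card ↥(Q'.map Pl.subtype ⊔ R'.map Pl.subtype) = 24)} :=
      ncard_le_transfer Pl (fun R => ¬ R ≤ P'.map Pl.subtype ⊔ Q'.map Pl.subtype ∧
        Nat.card ↥(P'.map Pl.subtype ⊔ R) = 24 ∧ Nat.card ↥(Q'.map Pl.subtype ⊔ R) = 24)
    have e : {R' : Subgroup Pl | Nat.card R' = 3 ∧
          (¬ R'.map Pl.subtype ≤ P'.map Pl.subtype ⊔ Q'.map Pl.subtype ∧
           Nat.card ↥(P'.map Pl.subtype ⊔ R'.map Pl.subtype) = 24 ∧
           Nat.card ↥(Q'.map Pl.subtype ⊔ R'.map Pl.subtype) = 24)} =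
        {R' : Subgroup Pl | Nat.card R' = 3 ∧ ¬ R' ≤ P' ⊔ Q' ∧ Nat.card ↥(P' ⊔ R') = 24 ∧
          Nat.card ↥(Q' ⊔ R') = 24} := by
      ext R'
      simp only [Set.mem_ofPred_eq]
      rw [← Subgroup.map_sup, ← Subgroup.map_sup, ← Subgroup.map_sup, card_map_subtype,
        card_map_subtype, Subgroup.map_le_map_iff_of_injective Pl.subtype_injective]
    rw [key, e]
    exact hc P' Q' (hP'.trans hP) (hQ'.trans hQ) h24'

end Cfsg.Agent.Lib.Helper43.Zass
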